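import Mathlib
import Cfsg.Prelude.Def_LocalStructure
import Cfsg.Agent.Lib.Transfer.Basic
import Cfsg.Agent.Lib.Fitting.Basic

/-!
# `p`-closed groups and `p`-irreducibility
-/

namespace CfsgLib.PIrreducible

set_option autoImplicit false
set_option linter.style.haveILetI false

variable {H : Type*} [Group H] [Finite H] {p : ℕ} [Fact p.Prime]

/-- A `p`-closed group is one whose `p`-subgroups all lie in `O_p`. -/
theorem isPClosed_iff :
    Cfsg.IsPClosed p H ↔ ∀ P : Subgroup H, IsPGroup p P → P ≤ Cfsg.pCore p H := by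
  constructor
  · intro h P hP
    obtain ⟨S, hS⟩ := hP.exists_le_sylow
    exact hS.trans (Fitting.le_pCore (h S) S.2)
  · intro h S
    rw [← S.is_maximal' (Fitting.pCore_isPGroup p) (h _ S.2)]
    exact Fitting.pCore_normal p

/-- Subgroups of `p`-closed groups are `p`-closed. -/
theorem isPClosed_subgroup (h : Cfsg.IsPClosed p H) (N : Subgroup H) : Cfsg.IsPClosed p N := by
  rw [isPClosed_iff] at h ⊢
  intro P hP
  haveI := Fitting.pCore_normal (G := H) p
  have h1 : (Cfsg.pCore p H).subgroupOf N ≤ Cfsg.pCore p N := Fitting.le_pCore inferInstance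
    ((Fitting.pCore_isPGroup p).comap_of_injective N.subtype N.subtype_injective)
  exact fun x hx => h1 (h _ (hP.map N.subtype) ⟨x, hx, rfl⟩)

/-- Homomorphic images of `p`-closed groups are `p`-closed. -/
theorem isPClosed_of_surjective {K : Type*} [Group K] [Finite K] {f : H →* K}
    (hf : Function.Surjective f) (h : Cfsg.IsPClosed p H) : Cfsg.IsPClosed p K := by
  intro P
  obtain ⟨S⟩ : Nonempty (Sylow p H) := inferInstance
  haveI := h S
  have hn : ((S.mapSurjective hf : Sylow p K) : Subgroup K).Normal := by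
    rw [Sylow.coe_mapSurjective]; exact Subgroup.Normal.map inferInstance f hf
  obtain ⟨g, hg⟩ := MulAction.exists_smul_eq K (S.mapSurjective hf) P
  rw [← hg, Sylow.smul_eq_of_normal]
  exact hn

/-- For a normal `p`-subgroup `D`, `O_p(H/D) = O_p(H)/D`. -/
theorem comap_pCore_mk (D : Subgroup H) [D.Normal] (hD : IsPGroup p D) :
    (Cfsg.pCore p (H ⧸ D)).comap (QuotientGroup.mk' D) = Cfsg.pCore p H := by
  haveI := Fitting.pCore_normal (G := H ⧸ D) p
  haveI := Fitting.pCore_normal (G := H) p
  refine le_antisymm (Fitting.le_pCore inferInstance ?_) ?_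
  · exact (Fitting.pCore_isPGroup p).comap_of_ker_isPGroup _ (by rwa [QuotientGroup.ker_mk'])
  · rw [← Subgroup.map_le_iff_le_comap]
    exact Fitting.le_pCore (Subgroup.Normal.map inferInstance _ (QuotientGroup.mk'_surjective D))
      ((Fitting.pCore_isPGroup p).map _)

/-- `p`-closedness is detected modulo a normal `p`-subgroup. -/
theorem isPClosed_quotient_iff (D : Subgroup H) [D.Normal] (hD : IsPGroup p D) :
    Cfsg.IsPClosed p (H ⧸ D) ↔ Cfsg.IsPClosed p H := by
  refine ⟨fun h => isPClosed_iff.mpr fun P hP => ?_,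
    isPClosed_of_surjective (QuotientGroup.mk'_surjective D)⟩
  rw [← comap_pCore_mk D hD, ← Subgroup.map_le_iff_le_comap]
  exact isPClosed_iff.mp h _ (hP.map _)

/-- A normal subgroup is `p`-closed iff its image modulo a normal `p`-subgroup is. -/
theorem isPClosed_map_iff (D : Subgroup H) [D.Normal] (hD : IsPGroup p D) (N : Subgroup H) :
    Cfsg.IsPClosed p (N.map (QuotientGroup.mk' D)) ↔ Cfsg.IsPClosed p N := by
  refine ⟨fun h => isPClosed_iff.mpr fun P hP => ?_,
    isPClosed_of_surjective ((QuotientGroup.mk' D).subgroupMap_surjective N)⟩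
  set f := (QuotientGroup.mk' D).subgroupMap N
  have hker : IsPGroup p f.ker := by
    intro x
    obtain ⟨k, hk⟩ := hD ⟨((x : N) : H), (QuotientGroup.eq_one_iff _).mp
      (congrArg Subtype.val (x.2 : f x = 1))⟩
    refine ⟨k, Subtype.ext (Subtype.ext ?_)⟩
    simpa using congrArg Subtype.val hk
  haveI := Fitting.pCore_normal (G := N.map (QuotientGroup.mk' D)) p
  have h1 : (Cfsg.pCore p (N.map (QuotientGroup.mk' D))).comap f ≤ Cfsg.pCore p N :=
    Fitting.le_pCore inferInstance ((Fitting.pCore_isPGroup p).comap_of_ker_isPGroup f hker)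
  exact le_trans (Subgroup.map_le_iff_le_comap.mp (isPClosed_iff.mp h _ (hP.map f))) h1

/-- `O^p` absorbs normal `p`-subgroups: a normal subgroup covering it modulo one contains it. -/
theorem pResidual_le_of_le_sup (D : Subgroup H) (hD : IsPGroup p D) (N : Subgroup H) [N.Normal]
    (h : Cfsg.pResidual p H ≤ N ⊔ D) : Cfsg.pResidual p H ≤ N := by
  rw [Cfsg.pResidual, Subgroup.closure_le]
  intro x hx
  obtain ⟨n, hn, d, hd, e⟩ :=
    Subgroup.mem_sup_of_normal_left.mp (h (Transfer.mem_pResidual_of_coprime hx))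
  obtain ⟨k, hk⟩ := hD ⟨d, hd⟩
  have e1 : (x : H ⧸ N) = (d : H ⧸ N) := by
    rw [← e, QuotientGroup.mk_mul, (QuotientGroup.eq_one_iff n).mpr hn, one_mul]
  refine (QuotientGroup.eq_one_iff x).mp (orderOf_eq_one_iff.mp
    (Nat.eq_one_of_dvd_coprimes (Nat.Coprime.pow_right k hx)
      (orderOf_map_dvd (QuotientGroup.mk' N) x) ?_))
  show orderOf (x : H ⧸ N) ∣ _
  rw [e1]
  exact (orderOf_map_dvd (QuotientGroup.mk' N) d).trans
    (orderOf_dvd_of_pow_eq_one (by simpa using congrArg Subtype.val hk))

end CfsgLib.PIrreducible
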